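import Mathlib

/-!
# The place at infinity of a rational function field in several variables

`degVal k σ` is the valuation `f ↦ exp (totalDegree f)` on `MvPolynomial σ k`; `inftyVal` its
extension to a fraction field `F`.  Its valuation ring is a discrete valuation ring (for nonempty
`σ`) and meets the polynomial ring in the constants.
-/

set_option backward.isDefEq.respectTransparency.types false
set_option autoImplicit false
set_option linter.unusedSectionVars false
set_option linter.unusedVariables false
set_option linter.style.haveILetI false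
set_option linter.unusedSimpArgs false
set_option maxHeartbeats 800000
set_option synthInstance.maxHeartbeats 400000

open MvPolynomial WithZero

namespace Groth.Agent.Helper6.UnitsFG

noncomputable section

open scoped Classical

variable (k : Type*) [Field k] (σ : Type*)

/-- The total degree valuation on `MvPolynomial σ k`. -/
def degVal : Valuation (MvPolynomial σ k) (WithZero (Multiplicative ℤ)) where
  toFun f := if f = 0 then 0 else exp (f.totalDegree : ℤ)
  map_zero' := if_pos rfl
  map_one' := by
    rw [if_neg one_ne_zero, totalDegree_one]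
    rfl
  map_mul' f g := by
    by_cases hf : f = 0
    · simp [hf]
    by_cases hg : g = 0
    · simp [hg]
    rw [if_neg (mul_ne_zero hf hg), if_neg hf, if_neg hg, totalDegree_mul_of_isDomain hf hg,
      Nat.cast_add, exp_add]
  map_add_le_max' f g := by
    by_cases hf : f = 0
    · simp [hf]
    by_cases hg : g = 0
    · simp [hg]
    by_cases hfg : f + g = 0
    · simp [hfg]
    rw [if_neg hfg, if_neg hf, if_neg hg, le_max_iff, exp_le_exp, exp_le_exp]
    have := totalDegree_add f g
    rcases le_max_iff.mp this with h | h
    · exact Or.inl (by exact_mod_cast h)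
    · exact Or.inr (by exact_mod_cast h)

theorem degVal_apply {f : MvPolynomial σ k} (hf : f ≠ 0) :
    degVal k σ f = exp (f.totalDegree : ℤ) := if_neg hf

theorem degVal_ne_zero {f : MvPolynomial σ k} (hf : f ≠ 0) : degVal k σ f ≠ 0 := by
  rw [degVal_apply k σ hf]
  exact WithZero.coe_ne_zero

theorem le_primeCompl :
    nonZeroDivisors (MvPolynomial σ k) ≤ (degVal k σ).supp.primeCompl := by
  intro f hf
  have hf0 : f ≠ 0 := nonZeroDivisors.ne_zero hf
  show f ∉ (degVal k σ).supp
  rw [Valuation.mem_supp_iff]
  exact degVal_ne_zero k σ hf0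

variable (F : Type*) [Field F] [Algebra (MvPolynomial σ k) F] [IsFractionRing (MvPolynomial σ k) F]

/-- The valuation at infinity on the fraction field of `MvPolynomial σ k`. -/
def inftyVal : Valuation F (WithZero (Multiplicative ℤ)) :=
  (degVal k σ).extendToLocalization (le_primeCompl k σ) F

theorem inftyVal_algebraMap (f : MvPolynomial σ k) :
    inftyVal k σ F (algebraMap (MvPolynomial σ k) F f) = degVal k σ f :=
  Valuation.extendToLocalization_apply_map_apply _ _ _ _

theorem eq_C_of_inftyVal_le_one (f : MvPolynomial σ k)
    (h : inftyVal k σ F (algebraMap (MvPolynomial σ k) F f) ≤ 1) : ∃ a : k, f = C a := by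
  rw [inftyVal_algebraMap] at h
  by_cases hf : f = 0
  · exact ⟨0, by rw [hf, map_zero]⟩
  · rw [degVal_apply k σ hf] at h
    have h' : exp (f.totalDegree : ℤ) ≤ exp (0 : ℤ) := h
    rw [exp_le_exp] at h'
    have h0 : f.totalDegree = 0 := by omega
    exact ⟨_, totalDegree_eq_zero_iff_eq_C.mp h0⟩

theorem inftyVal_C_le_one (a : k) :
    inftyVal k σ F (algebraMap (MvPolynomial σ k) F (C a)) ≤ 1 := by
  rw [inftyVal_algebraMap]
  by_cases ha : (C a : MvPolynomial σ k) = 0
  · rw [ha, map_zero]
    exact zero_le_one
  · rw [degVal_apply k σ ha, totalDegree_C]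
    exact le_refl _

theorem isDVR [Nonempty σ] : IsDiscreteValuationRing (inftyVal k σ F).valuationSubring := by
  haveI : IsCyclic (MonoidWithZeroHom.valueGroup (MonoidWithZeroHom.ofClass (inftyVal k σ F))) :=
    inferInstance
  haveI : Nontrivial
      (MonoidWithZeroHom.valueGroup (MonoidWithZeroHom.ofClass (inftyVal k σ F))) := by
    obtain ⟨i⟩ := ‹Nonempty σ›
    have hx : inftyVal k σ F (algebraMap _ F (X i : MvPolynomial σ k)) = exp (1 : ℤ) := by
      rw [inftyVal_algebraMap, degVal_apply k σ (X_ne_zero i), totalDegree_X]
      rfl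
    have hmem : (Units.mk0 (exp (1 : ℤ)) WithZero.coe_ne_zero :
        (WithZero (Multiplicative ℤ))ˣ) ∈
        MonoidWithZeroHom.valueGroup (MonoidWithZeroHom.ofClass (inftyVal k σ F)) :=
      MonoidWithZeroHom.mem_valueGroup _ ⟨algebraMap _ F (X i : MvPolynomial σ k), hx⟩
    refine ⟨⟨⟨_, hmem⟩, 1, ?_⟩⟩
    intro h
    have h1 : (Units.mk0 (exp (1 : ℤ)) WithZero.coe_ne_zero :
        (WithZero (Multiplicative ℤ))ˣ) = 1 := congrArg Subtype.val h
    have h2 : exp (1 : ℤ) = exp (0 : ℤ) := congrArg Units.val h1
    rw [exp_inj] at h2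
    exact one_ne_zero h2
  exact Valuation.valuationSubring_isDiscreteValuationRing _

end

end Groth.Agent.Helper6.UnitsFG
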