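import Mathlib

/-!
# Units of a finite extension of the fraction field of a DVR

For a discrete valuation ring `O` with fraction field `F` and a finite extension `K / F` there is
a homomorphism `Kˣ → ℤⁿ` whose kernel consists of the units `u` with `u`, `u⁻¹` integral over
`O`.  (Valuations of the integral closure of `O` in the separable closure of `F` in `K`, composed
with a power of Frobenius.)
-/

set_option backward.isDefEq.respectTransparency.types false
set_option autoImplicit false
set_option linter.unusedSectionVars false
set_option linter.unusedVariables false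
set_option linter.style.haveILetI false
set_option linter.unusedSimpArgs false
set_option maxHeartbeats 800000
set_option synthInstance.maxHeartbeats 400000

open IsDedekindDomain

namespace Groth.Agent.Helper6.UnitsFG

universe u v w

section L1

theorem exists_hom_dvr (O : Type u) (F : Type v) (K : Type w) [CommRing O] [IsDomain O]
    [IsDiscreteValuationRing O] [Field F] [Algebra O F] [IsFractionRing O F] [Field K]
    [Algebra F K] [FiniteDimensional F K] [Algebra O K] [IsScalarTower O F K] :
    ∃ (n : ℕ) (φ : Kˣ →* Multiplicative (Fin n → ℤ)),
      (∀ u : Kˣ, φ u = 1 → IsIntegral O (u : K)) ∧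
      (∀ u : Kˣ, IsIntegral O (u : K) → IsIntegral O ((u⁻¹ : Kˣ) : K) → φ u = 1) := by
  classical
  haveI : Algebra.IsAlgebraic F K := Algebra.IsAlgebraic.of_finite F K
  haveI : IsPurelyInseparable (separableClosure F K) K := separableClosure.isPurelyInseparable F K
  haveI : Algebra.IsSeparable F (separableClosure F K) := separableClosure.isSeparable F K
  haveI : IsPurelyInseparable.HasExponent (separableClosure F K) K :=
    IsPurelyInseparable.hasExponent_of_finiteDimensional
  haveI : IsScalarTower O (separableClosure F K) K := IsScalarTower.of_algebraMap_eq fun x => by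
    rw [IsScalarTower.algebraMap_apply O F K, IsScalarTower.algebraMap_apply O F (separableClosure F K),
      ← IsScalarTower.algebraMap_apply F (separableClosure F K) K]
  haveI : IsDedekindDomain (integralClosure O (separableClosure F K)) :=
    integralClosure.isDedekindDomain O F (separableClosure F K)
  haveI : IsFractionRing (integralClosure O (separableClosure F K)) (separableClosure F K) :=
    integralClosure.isFractionRing_of_finite_extension F (separableClosure F K)
  -- the Frobenius power
  obtain ⟨p, hp⟩ : ∃ p, p = ringExpChar (separableClosure F K) := ⟨_, rfl⟩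
  haveI : ExpChar (separableClosure F K) p := hp ▸ inferInstance
  obtain ⟨N, hN⟩ : ∃ N, N = IsPurelyInseparable.exponent (separableClosure F K) K := ⟨_, rfl⟩
  obtain ⟨ψ, hψ⟩ : ∃ ψ : K →+* separableClosure F K,
      ∀ a : K, algebraMap (separableClosure F K) K (ψ a) = a ^ p ^ N :=
    ⟨IsPurelyInseparable.iterateFrobenius (separableClosure F K) K p (le_of_eq hN.symm),
      fun a => IsPurelyInseparable.algebraMap_iterateFrobenius _ p _ a⟩
  have hpN : 0 < p ^ N := pow_pos (expChar_pos (separableClosure F K) p) N
  -- finiteness of the set of primes
  have hinjOK : Function.Injective (algebraMap O (separableClosure F K)) := by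
    rw [IsScalarTower.algebraMap_eq O F (separableClosure F K)]
    exact (algebraMap F (separableClosure F K)).injective.comp (IsFractionRing.injective O F)
  have hinjOB : Function.Injective
      (algebraMap O (integralClosure O (separableClosure F K))) := by
    intro x y hxy
    apply hinjOK
    have := congrArg (algebraMap (integralClosure O (separableClosure F K))
      (separableClosure F K)) hxy
    rwa [← IsScalarTower.algebraMap_apply, ← IsScalarTower.algebraMap_apply] at this
  haveI : Finite (HeightOneSpectrum (integralClosure O (separableClosure F K))) := by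
    have hI : (IsLocalRing.maximalIdeal O).map
        (algebraMap O (integralClosure O (separableClosure F K))) ≠ 0 := by
      rw [Ne, Ideal.zero_eq_bot, Ideal.map_eq_bot_iff_of_injective hinjOB]
      exact IsDiscreteValuationRing.not_a_field O
    have hfin := Ideal.finite_factors hI
    have huniv : {v : HeightOneSpectrum (integralClosure O (separableClosure F K)) |
        v.asIdeal ∣ (IsLocalRing.maximalIdeal O).map
          (algebraMap O (integralClosure O (separableClosure F K)))} = Set.univ := by
      ext Q
      simp only [Set.mem_ofPred_eq, Set.mem_univ, iff_true]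
      rw [Ideal.dvd_iff_le, Ideal.map_le_iff_le_comap]
      haveI := Q.isMaximal
      have := Ideal.isMaximal_comap_of_isIntegral_of_isMaximal (R := O) Q.asIdeal
      rw [IsLocalRing.eq_maximalIdeal this]
    rw [huniv] at hfin
    exact Set.finite_univ_iff.mp hfin
  obtain ⟨n, ⟨e⟩⟩ := Finite.exists_equiv_fin
    (HeightOneSpectrum (integralClosure O (separableClosure F K)))
  -- the valuations
  obtain ⟨val, hval⟩ : ∃ val : HeightOneSpectrum (integralClosure O (separableClosure F K)) →
      (separableClosure F K)ˣ →* Multiplicative ℤ,
      ∀ Q x, val Q x = 1 ↔ Q.valuation (separableClosure F K) (x : separableClosure F K) = 1 := by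
    refine ⟨fun Q => (WithZero.unitsWithZeroEquiv (α := Multiplicative ℤ)).toMonoidHom.comp
      (Units.map ((Q.valuation (separableClosure F K)).toMonoidWithZeroHom.toMonoidHom)), ?_⟩
    intro Q x
    rw [MonoidHom.comp_apply]
    show (WithZero.unitsWithZeroEquiv (α := Multiplicative ℤ)) _ = 1 ↔ _
    rw [MulEquiv.map_eq_one_iff, Units.ext_iff]
    rfl
  obtain ⟨φ, hφ⟩ : ∃ φ : Kˣ →* Multiplicative (Fin n → ℤ),
      ∀ u, φ u = 1 ↔ ∀ j, val (e.symm j) (Units.map ψ.toMonoidHom u) = 1 := by
    refine ⟨(MulEquiv.piMultiplicative (fun _ : Fin n => ℤ)).symm.toMonoidHom.comp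
      (MonoidHom.pi fun j => (val (e.symm j)).comp (Units.map ψ.toMonoidHom)), ?_⟩
    intro u
    rw [MonoidHom.comp_apply]
    show (MulEquiv.piMultiplicative (fun _ : Fin n => ℤ)).symm _ = 1 ↔ _
    rw [MulEquiv.map_eq_one_iff]
    constructor
    · intro h j
      exact congrFun h j
    · intro h
      funext j
      exact h j
  have hφ' : ∀ u, φ u = 1 ↔ ∀ Q : HeightOneSpectrum (integralClosure O (separableClosure F K)),
      Q.valuation (separableClosure F K) (ψ (u : K)) = 1 := by
    intro u
    rw [hφ]
    constructor
    · intro h Q
      have := (hval _ _).mp (h (e Q))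
      rw [e.symm_apply_apply] at this
      exact this
    · intro h j
      exact (hval _ _).mpr (h _)
  refine ⟨n, φ, ?_, ?_⟩
  · intro u hu
    rw [hφ'] at hu
    obtain ⟨b, hb⟩ := HeightOneSpectrum.mem_integers_of_valuation_le_one (separableClosure F K)
      (ψ (u : K)) (fun Q => (hu Q).le)
    have h1 : IsIntegral O (ψ (u : K)) := by
      rw [← hb]
      exact (mem_integralClosure_iff O (separableClosure F K)).mp b.2
    have h2 : IsIntegral O ((u : K) ^ p ^ N) := by
      rw [← hψ]
      exact h1.algebraMap
    exact IsIntegral.of_pow hpN h2
  · intro u hu hu'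
    rw [hφ']
    have key : ∀ w : K, IsIntegral O w → ∀ Q : HeightOneSpectrum
        (integralClosure O (separableClosure F K)),
        Q.valuation (separableClosure F K) (ψ w) ≤ 1 := by
      intro w hw Q
      have h2 : IsIntegral O (algebraMap (separableClosure F K) K (ψ w)) := by
        rw [hψ]
        exact hw.pow _
      have h1 : IsIntegral O (ψ w) :=
        (isIntegral_algebraMap_iff (algebraMap (separableClosure F K) K).injective).mp h2
      obtain ⟨b, hb⟩ := (IsIntegralClosure.isIntegral_iff
        (A := integralClosure O (separableClosure F K))).mp h1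
      rw [← hb]
      exact HeightOneSpectrum.valuation_le_one Q b
    intro Q
    apply le_antisymm (key _ hu Q)
    have h3 := key _ hu' Q
    have h4 : ψ ((u⁻¹ : Kˣ) : K) = (ψ (u : K))⁻¹ := by
      rw [Units.val_inv_eq_inv_val, map_inv₀]
    rw [h4, Valuation.map_inv] at h3
    have hne : Q.valuation (separableClosure F K) (ψ (u : K)) ≠ 0 := by
      rw [Valuation.ne_zero_iff]
      intro h0
      have := (map_eq_zero ψ).mp h0
      exact u.ne_zero this
    exact (inv_le_one₀ (zero_lt_iff.mpr hne)).mp h3

end L1

end Groth.Agent.Helper6.UnitsFG
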