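import Mathlib
import Groth.Agent.Lib.Helper6.UnitsFG.UF1
import Groth.Agent.Lib.Helper6.UnitsFG.UF2

/-!
# Units of a finitely generated domain over a field modulo algebraic units

`exists_hom_isAlgebraic`: for a domain `A` of finite type over a field `k` there is a homomorphism
`Aˣ → ℤⁿ` which kills the constants and whose kernel consists of units algebraic over `k`.
-/

set_option backward.isDefEq.respectTransparency.types false
set_option autoImplicit false
set_option linter.unusedSectionVars false
set_option linter.unusedVariables false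
set_option linter.style.haveILetI false
set_option linter.unusedSimpArgs false
set_option maxHeartbeats 1600000
set_option synthInstance.maxHeartbeats 400000

open Polynomial

namespace Groth.Agent.Helper6.UnitsFG

universe u v w₁ w₂

/-- The abstract step: `A` finite over the polynomial ring `P` in `s + 1` variables. -/
theorem core_step (k : Type u) [Field k] (s : ℕ) (A : Type v) [CommRing A] [IsDomain A]
    [Algebra k A] [Algebra (MvPolynomial (Fin (s + 1)) k) A]
    [IsScalarTower k (MvPolynomial (Fin (s + 1)) k) A]
    [Module.Finite (MvPolynomial (Fin (s + 1)) k) A]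
    [FaithfulSMul (MvPolynomial (Fin (s + 1)) k) A]
    (F : Type w₁) (K : Type w₂) [Field F] [Field K]
    [Algebra (MvPolynomial (Fin (s + 1)) k) F] [IsFractionRing (MvPolynomial (Fin (s + 1)) k) F]
    [Algebra A K] [IsFractionRing A K] [Algebra F K] [Algebra (MvPolynomial (Fin (s + 1)) k) K]
    [IsScalarTower (MvPolynomial (Fin (s + 1)) k) F K]
    [IsScalarTower (MvPolynomial (Fin (s + 1)) k) A K]
    [Algebra k K] [IsScalarTower k A K] :
    ∃ (n : ℕ) (φ : Aˣ →* Multiplicative (Fin n → ℤ)),
      (∀ u : Aˣ, φ u = 1 → IsAlgebraic k (u : A)) ∧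
      (∀ c : kˣ, φ (Units.map (algebraMap k A).toMonoidHom c) = 1) := by
  classical
  haveI : IsScalarTower k (MvPolynomial (Fin (s + 1)) k) K :=
    IsScalarTower.of_algebraMap_eq fun c => by
      rw [IsScalarTower.algebraMap_apply k A K,
        IsScalarTower.algebraMap_apply (MvPolynomial (Fin (s + 1)) k) A K,
        ← IsScalarTower.algebraMap_apply k (MvPolynomial (Fin (s + 1)) k) A]
  haveI : FiniteDimensional F K :=
    Module.Finite.of_isLocalization (MvPolynomial (Fin (s + 1)) k) A
      (nonZeroDivisors (MvPolynomial (Fin (s + 1)) k))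
  haveI : IsDiscreteValuationRing (inftyVal k (Fin (s + 1)) F).valuationSubring :=
    isDVR k (Fin (s + 1)) F
  letI : Algebra (inftyVal k (Fin (s + 1)) F).valuationSubring K :=
    ((algebraMap F K).comp (algebraMap (inftyVal k (Fin (s + 1)) F).valuationSubring F)).toAlgebra
  haveI : IsScalarTower (inftyVal k (Fin (s + 1)) F).valuationSubring F K :=
    IsScalarTower.of_algebraMap_eq fun _ => rfl
  obtain ⟨n, φ, h1, h2⟩ := exists_hom_dvr (inftyVal k (Fin (s + 1)) F).valuationSubring F K
  refine ⟨n, φ.comp (Units.map (algebraMap A K).toMonoidHom), ?_, ?_⟩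
  · intro u hu
    have hO : IsIntegral (inftyVal k (Fin (s + 1)) F).valuationSubring
        (algebraMap A K (u : A)) := h1 _ hu
    have hP : IsIntegral (MvPolynomial (Fin (s + 1)) k) (algebraMap A K (u : A)) :=
      (IsIntegral.of_finite (MvPolynomial (Fin (s + 1)) k) (u : A)).algebraMap
    have e1 := minpoly.isIntegrallyClosed_eq_field_fractions' F hP
    have e2 := minpoly.isIntegrallyClosed_eq_field_fractions' F hO
    have hcoef : ∀ i, ∃ a : k,
        (minpoly (MvPolynomial (Fin (s + 1)) k) (algebraMap A K (u : A))).coeff i =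
          MvPolynomial.C a := by
      intro i
      apply eq_C_of_inftyVal_le_one k (Fin (s + 1)) F
      have h3 : algebraMap (MvPolynomial (Fin (s + 1)) k) F
          ((minpoly (MvPolynomial (Fin (s + 1)) k) (algebraMap A K (u : A))).coeff i) =
          algebraMap (inftyVal k (Fin (s + 1)) F).valuationSubring F
            ((minpoly (inftyVal k (Fin (s + 1)) F).valuationSubring
              (algebraMap A K (u : A))).coeff i) := by
        have := congrArg (fun q => q.coeff i) (e1.symm.trans e2)
        simpa [Polynomial.coeff_map] using this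
      rw [h3]
      exact (Valuation.mem_valuationSubring_iff _ _).mp
        ((minpoly (inftyVal k (Fin (s + 1)) F).valuationSubring
          (algebraMap A K (u : A))).coeff i).2
    obtain ⟨q, hq⟩ : ∃ q : k[X], q = (minpoly (MvPolynomial (Fin (s + 1)) k)
        (algebraMap A K (u : A))).map MvPolynomial.constantCoeff := ⟨_, rfl⟩
    have hqmap : q.map (algebraMap k (MvPolynomial (Fin (s + 1)) k)) =
        minpoly (MvPolynomial (Fin (s + 1)) k) (algebraMap A K (u : A)) := by
      ext i : 1
      rw [hq, Polynomial.coeff_map, Polynomial.coeff_map]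
      obtain ⟨a, ha⟩ := hcoef i
      rw [ha, MvPolynomial.constantCoeff_C, MvPolynomial.algebraMap_eq]
    have hqm : q.Monic := by
      rw [hq]
      exact (minpoly.monic hP).map _
    have hq0 : Polynomial.aeval (algebraMap A K (u : A)) q = 0 := by
      rw [← Polynomial.aeval_map_algebraMap (MvPolynomial (Fin (s + 1)) k), hqmap, minpoly.aeval]
    have halg : IsAlgebraic k (algebraMap A K (u : A)) := ⟨q, hqm.ne_zero, hq0⟩
    exact (isAlgebraic_algebraMap_iff (IsFractionRing.injective A K)).mp halg
  · intro c
    have hc : ∀ d : k, IsIntegral (inftyVal k (Fin (s + 1)) F).valuationSubring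
        (algebraMap A K (algebraMap k A d)) := by
      intro d
      have hmem : algebraMap (MvPolynomial (Fin (s + 1)) k) F (MvPolynomial.C d) ∈
          (inftyVal k (Fin (s + 1)) F).valuationSubring :=
        (Valuation.mem_valuationSubring_iff _ _).mpr (inftyVal_C_le_one k (Fin (s + 1)) F d)
      have heq : algebraMap A K (algebraMap k A d) =
          algebraMap (inftyVal k (Fin (s + 1)) F).valuationSubring K ⟨_, hmem⟩ := by
        show _ = algebraMap F K (algebraMap (MvPolynomial (Fin (s + 1)) k) F (MvPolynomial.C d))
        rw [← IsScalarTower.algebraMap_apply (MvPolynomial (Fin (s + 1)) k) F K,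
          IsScalarTower.algebraMap_apply (MvPolynomial (Fin (s + 1)) k) A K,
          ← MvPolynomial.algebraMap_eq, ← IsScalarTower.algebraMap_apply k
            (MvPolynomial (Fin (s + 1)) k) A]
      rw [heq]
      exact isIntegral_algebraMap
    apply h2
    · exact hc (c : k)
    · have : ((Units.map (algebraMap A K).toMonoidHom
          (Units.map (algebraMap k A).toMonoidHom c))⁻¹ : Kˣ).val =
          algebraMap A K (algebraMap k A ((c⁻¹ : kˣ) : k)) := by
        rw [← map_inv, ← map_inv]
        rfl
      rw [this]
      exact hc _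

/-- Units of a domain of finite type over a field: a homomorphism to `ℤⁿ` killing constants whose
kernel consists of algebraic units. -/
theorem exists_hom_isAlgebraic (k : Type u) [Field k] (A : Type v) [CommRing A] [IsDomain A]
    [Algebra k A] [Algebra.FiniteType k A] :
    ∃ (n : ℕ) (φ : Aˣ →* Multiplicative (Fin n → ℤ)),
      (∀ u : Aˣ, φ u = 1 → IsAlgebraic k (u : A)) ∧
      (∀ c : kˣ, φ (Units.map (algebraMap k A).toMonoidHom c) = 1) := by
  classical
  obtain ⟨s, g, hinj, hfin⟩ := exists_finite_inj_algHom_of_fg k A
  rcases s with _ | s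
  · refine ⟨0, 1, fun u _ => ?_, fun c => rfl⟩
    obtain ⟨p, hpm, hp⟩ := hfin.to_isIntegral (u : A)
    have hcomp : (algebraMap k A).comp
        (MvPolynomial.isEmptyAlgEquiv k (Fin 0)).toAlgHom.toRingHom = g.toRingHom := by
      apply MvPolynomial.ringHom_ext
      · intro a
        have h1 : (MvPolynomial.isEmptyAlgEquiv k (Fin 0)) (MvPolynomial.C a) = a := by
          rw [← MvPolynomial.algebraMap_eq, AlgEquiv.commutes]
          rfl
        show algebraMap k A ((MvPolynomial.isEmptyAlgEquiv k (Fin 0)) (MvPolynomial.C a)) =
          g (MvPolynomial.C a)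
        rw [h1, ← MvPolynomial.algebraMap_eq, g.commutes]
      · intro i
        exact i.elim0
    refine ⟨p.map (MvPolynomial.isEmptyAlgEquiv k (Fin 0)).toAlgHom.toRingHom,
      (hpm.map _).ne_zero, ?_⟩
    rw [Polynomial.aeval_def, Polynomial.eval₂_map, hcomp]
    exact hp
  · letI : Algebra (MvPolynomial (Fin (s + 1)) k) A := g.toRingHom.toAlgebra
    haveI : IsScalarTower k (MvPolynomial (Fin (s + 1)) k) A :=
      IsScalarTower.of_algebraMap_eq fun x => (g.commutes x).symm
    haveI : Module.Finite (MvPolynomial (Fin (s + 1)) k) A := hfin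
    haveI : FaithfulSMul (MvPolynomial (Fin (s + 1)) k) A :=
      (faithfulSMul_iff_algebraMap_injective _ _).mpr hinj
    letI : Algebra (FractionRing (MvPolynomial (Fin (s + 1)) k)) (FractionRing A) :=
      FractionRing.liftAlgebra (MvPolynomial (Fin (s + 1)) k) (FractionRing A)
    haveI : IsScalarTower (MvPolynomial (Fin (s + 1)) k)
        (FractionRing (MvPolynomial (Fin (s + 1)) k)) (FractionRing A) :=
      FractionRing.isScalarTower_liftAlgebra (MvPolynomial (Fin (s + 1)) k) (FractionRing A)
    exact core_step k s A (FractionRing (MvPolynomial (Fin (s + 1)) k)) (FractionRing A)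

end Groth.Agent.Helper6.UnitsFG
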