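import Mathlib

/-!
# Scheme lemmas for units modulo constants

* `exists_dense_integral_affine`: a reduced scheme with finitely many irreducible components has a
  finite family of affine opens with integral domains of sections whose union is dense.
* `eq_zero_of_res_eq_zero`: on a reduced scheme a global section vanishing on such a family is `0`.
* `finiteType_res`: for `f : X ⟶ Spec k` locally of finite type and an affine open `V`, the
  structure map `k → Γ(X, V)` is of finite type.
-/

set_option backward.isDefEq.respectTransparency.types false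
set_option autoImplicit false
set_option linter.unusedSectionVars false
set_option linter.unusedVariables false
set_option linter.style.haveILetI false
set_option linter.unusedSimpArgs false
set_option maxHeartbeats 800000
set_option synthInstance.maxHeartbeats 400000

open CategoryTheory AlgebraicGeometry TopologicalSpace

namespace Groth.Agent.Helper6.UnitsFG

universe u

/-- Restriction of global sections to an open. -/
noncomputable abbrev res (X : Scheme.{u}) (V : X.Opens) : Γ(X, ⊤) →+* Γ(X, V) :=
  (X.presheaf.map (homOfLE (le_top : V ≤ ⊤)).op).hom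

theorem exists_dense_integral_affine (X : Scheme.{u}) [IsReduced X]
    (hirr : (irreducibleComponents (X : Type u)).Finite) :
    ∃ (ι : Type u) (_ : Finite ι) (V : ι → X.Opens), (∀ i, IsAffineOpen (V i)) ∧
      (∀ i, IsDomain Γ(X, V i)) ∧
      ∀ N : X.Opens, (N : Set X).Nonempty → ∃ i, ((N : Set X) ∩ (V i : Set X)).Nonempty := by
  classical
  -- for every component an affine open inside it and outside the others
  have key : ∀ Z ∈ irreducibleComponents (X : Type u), ∃ V : X.Opens, IsAffineOpen V ∧
      (V : Set X).Nonempty ∧ (V : Set X) ⊆ Z := by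
    intro Z hZ
    have hfin : (irreducibleComponents (X : Type u) \ {Z}).Finite := hirr.subset Set.sdiff_subset
    have hclosed : IsClosed (⋃₀ (irreducibleComponents (X : Type u) \ {Z})) := by
      rw [Set.sUnion_eq_biUnion]
      exact hfin.isClosed_biUnion fun t ht => isClosed_of_mem_irreducibleComponents t ht.1
    have hsub : (⋃₀ (irreducibleComponents (X : Type u) \ {Z}))ᶜ ⊆ Z := by
      intro x hx
      have hxu : x ∈ ⋃₀ irreducibleComponents (X : Type u) := by
        rw [sUnion_irreducibleComponents]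
        exact Set.mem_univ x
      obtain ⟨Z', hZ', hxZ'⟩ := hxu
      by_cases hZZ : Z' = Z
      · rw [← hZZ]
        exact hxZ'
      · exact absurd (Set.mem_sUnion_of_mem hxZ'
          (show Z' ∈ irreducibleComponents (X : Type u) \ {Z} from ⟨hZ', hZZ⟩)) hx
    have hne : (⋃₀ (irreducibleComponents (X : Type u) \ {Z}))ᶜ.Nonempty := by
      rw [Set.nonempty_compl]
      intro huniv
      have := mem_of_subset_sUnion_irreducibleComponents Z hZ _ hfin Set.sdiff_subset
        (by rw [huniv]; exact Set.subset_univ _)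
      exact this.2 rfl
    obtain ⟨x, hx⟩ := hne
    obtain ⟨_, ⟨V, hV, rfl⟩, hxV, hVW⟩ :=
      X.isBasis_affineOpens.exists_subset_of_mem_open hx hclosed.isOpen_compl
    exact ⟨V, hV, ⟨x, hxV⟩, hVW.trans hsub⟩
  choose! V hVaff hVne hVsub using key
  refine ⟨{Z // Z ∈ irreducibleComponents (X : Type u)}, hirr.to_subtype, fun Z => V Z.1,
    fun Z => hVaff _ Z.2, fun Z => ?_, ?_⟩
  · -- the sections form a domain
    have hirrZ : IsIrreducible (Z.1 : Set X) := Z.2.1
    have hpre : IsPreirreducible ((V Z.1 : X.Opens) : Set X) :=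
      hirrZ.isPreirreducible.open_subset (V Z.1).isOpen (hVsub _ Z.2)
    haveI : IrreducibleSpace ((V Z.1 : X.Opens) : Set X) :=
      isIrreducible_iff_irreducibleSpace.mp ⟨hVne _ Z.2, hpre⟩
    haveI : IrreducibleSpace ↥((V Z.1 : X.Opens) : Scheme.{u}) := ‹_›
    haveI : IsIntegral ((V Z.1 : X.Opens) : Scheme.{u}) :=
      isIntegral_of_irreducibleSpace_of_isReduced _
    exact (V Z.1).topIso.commRingCatIsoToRingEquiv.symm.toMulEquiv.isDomain
  · intro N ⟨y, hy⟩
    have hyu : y ∈ ⋃₀ irreducibleComponents (X : Type u) := by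
      rw [sUnion_irreducibleComponents]
      exact Set.mem_univ y
    obtain ⟨Z, hZ, hyZ⟩ := hyu
    obtain ⟨w, hwV⟩ := hVne Z hZ
    have := hZ.1.isPreirreducible (N : Set X) (V Z : Set X) N.isOpen (V Z).isOpen
      ⟨y, hyZ, hy⟩ ⟨w, hVsub Z hZ hwV, hwV⟩
    obtain ⟨z, -, hz⟩ := this
    exact ⟨⟨Z, hZ⟩, z, hz⟩

theorem eq_zero_of_res_eq_zero (X : Scheme.{u}) [IsReduced X] {ι : Type*} (V : ι → X.Opens)
    (hdense : ∀ N : X.Opens, (N : Set X).Nonempty →
      ∃ i, ((N : Set X) ∩ (V i : Set X)).Nonempty)
    (s : Γ(X, ⊤)) (hs : ∀ i, res X (V i) s = 0) : s = 0 := by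
  rw [← basicOpen_eq_bot_iff]
  by_contra hne
  have hne' : ((X.basicOpen s : X.Opens) : Set X).Nonempty := by
    rw [Set.nonempty_iff_ne_empty]
    intro h
    exact hne (Opens.ext h)
  obtain ⟨i, z, hz1, hz2⟩ := hdense _ hne'
  have h1 := X.basicOpen_res s (homOfLE (le_top : V i ≤ ⊤)).op
  have h2 : X.basicOpen ((X.presheaf.map (homOfLE (le_top : V i ≤ ⊤)).op).hom s) = ⊥ := by
    have : (X.presheaf.map (homOfLE (le_top : V i ≤ ⊤)).op).hom s = 0 := hs i
    rw [this]
    exact X.basicOpen_zero _
  rw [h2] at h1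
  have hz : z ∈ ((V i ⊓ X.basicOpen s : X.Opens) : Set X) := ⟨hz2, hz1⟩
  rw [← h1] at hz
  exact hz

theorem finiteType_res {k : Type u} [Field k] {X : Scheme.{u}} (f : X ⟶ Spec (CommRingCat.of k))
    [LocallyOfFiniteType f] {V : X.Opens} (hV : IsAffineOpen V) :
    ((res X V).comp
      (f.appTop.hom.comp (Scheme.ΓSpecIso (CommRingCat.of k)).inv.hom)).FiniteType := by
  have h1 := HasRingHomProperty.appLE (P := @LocallyOfFiniteType) f inferInstance
    ⟨⊤, isAffineOpen_top _⟩ ⟨V, hV⟩ le_top
  have h2 : ((Scheme.ΓSpecIso (CommRingCat.of k)).inv.hom).FiniteType :=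
    RingHom.FiniteType.of_surjective _
      (ConcreteCategory.bijective_of_isIso (Scheme.ΓSpecIso (CommRingCat.of k)).inv).2
  have h3 := h1.comp h2
  rw [← RingHom.comp_assoc]
  exact h3

end Groth.Agent.Helper6.UnitsFG
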