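import Mathlib
import Groth.Agent.Lib.Helper6.UnitsFG.UF3
import Groth.Agent.Lib.Helper6.UnitsFG.UF4

/-!
# Units modulo constants on schemes of finite type over a field

* `units_mod_constants_fg`: for a reduced scheme locally of finite type over a field `k` with
  finitely many irreducible components in which every global function integral over `k` is
  constant, the group of global units modulo constants is finitely generated.
* `units_free`: for an integral scheme locally of finite type over an algebraically closed field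
  the units modulo constants form a free abelian group of finite rank.
-/

set_option backward.isDefEq.respectTransparency.types false
set_option autoImplicit false
set_option linter.unusedSectionVars false
set_option linter.unusedVariables false
set_option linter.style.haveILetI false
set_option linter.unusedSimpArgs false
set_option maxHeartbeats 1600000
set_option synthInstance.maxHeartbeats 400000

open CategoryTheory AlgebraicGeometry TopologicalSpace

namespace Groth.Agent.Helper6.UnitsFG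

universe u

/-- Subgroups of `Multiplicative M` for a finitely generated `ℤ`-module `M` are finitely
generated. -/
theorem subgroup_fg (M : Type*) [AddCommGroup M] [Module.Finite ℤ M]
    (S : Subgroup (Multiplicative M)) : S.FG := by
  obtain ⟨P, hP⟩ : ∃ P : AddSubgroup M, AddSubgroup.toSubgroup P = S :=
    ⟨AddSubgroup.toSubgroup.symm S, OrderIso.apply_symm_apply _ _⟩
  rw [← hP, ← AddSubgroup.fg_iff_mul_fg]
  have h1 : (AddSubgroup.toIntSubmodule P).FG := IsNoetherian.noetherian _
  rw [Submodule.fg_iff_addSubgroup_fg] at h1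
  simpa using h1

theorem fg_quotient_of_hom {G : Type*} [CommGroup G] {M : Type*} [AddCommGroup M]
    [Module.Finite ℤ M] (Φ : G →* Multiplicative M) (N : Subgroup G) (h : Φ.ker ≤ N) :
    Group.FG (G ⧸ N) := by
  haveI : Group.FG ↥Φ.range := (Group.fg_iff_subgroup_fg _).mpr (subgroup_fg M _)
  haveI : Group.FG (G ⧸ Φ.ker) :=
    Group.fg_of_surjective (f := (QuotientGroup.quotientKerEquivRange Φ).symm.toMonoidHom)
      (QuotientGroup.quotientKerEquivRange Φ).symm.surjective
  have h' : Φ.ker ≤ Subgroup.comap (MonoidHom.id G) N := by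
    rw [Subgroup.comap_id]
    exact h
  refine Group.fg_of_surjective (f := QuotientGroup.map Φ.ker N (MonoidHom.id G) h') ?_
  intro x
  obtain ⟨g, rfl⟩ := QuotientGroup.mk_surjective x
  exact ⟨(g : G ⧸ Φ.ker), rfl⟩

theorem exists_eq_algebraMap_of_isIntegral {k A : Type*} [Field k] [IsAlgClosed k] [CommRing A]
    [IsDomain A] [Algebra k A] {x : A} (hx : IsIntegral k x) : ∃ c : k, algebraMap k A c = x := by
  refine ⟨-(minpoly k x).coeff 0, ?_⟩
  have hq : (minpoly k x).leadingCoeff = 1 := minpoly.monic hx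
  have h : (minpoly k x).degree = 1 :=
    IsAlgClosed.degree_eq_one_of_irreducible k (minpoly.irreducible hx)
  have : Polynomial.aeval x (minpoly k x) = 0 := minpoly.aeval k x
  rw [Polynomial.eq_X_add_C_of_degree_eq_one h, hq, Polynomial.C_1, one_mul, Polynomial.aeval_add,
    Polynomial.aeval_X, Polynomial.aeval_C, add_eq_zero_iff_eq_neg] at this
  exact (map_neg (algebraMap k A) ((minpoly k x).coeff 0)).symm ▸ this.symm

theorem units_mod_constants_fg (k : Type u) [Field k] (X : Scheme.{u})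
    (f : X ⟶ Spec (CommRingCat.of k)) [LocallyOfFiniteType f] [IsReduced X]
    (hirr : (irreducibleComponents (X : Type u)).Finite)
    (hint : ∀ x : Γ(X, ⊤),
      (f.appTop.hom.comp (Scheme.ΓSpecIso (CommRingCat.of k)).inv.hom).IsIntegralElem x →
      x ∈ Set.range (f.appTop.hom.comp (Scheme.ΓSpecIso (CommRingCat.of k)).inv.hom)) :
    Group.FG ((Γ(X, ⊤))ˣ ⧸ (Units.map ((f.appTop.hom.comp
      (Scheme.ΓSpecIso (CommRingCat.of k)).inv.hom : k →+* Γ(X, ⊤)) : k →* Γ(X, ⊤))).range) := by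
  classical
  obtain ⟨io, hio⟩ : ∃ io : k →+* Γ(X, ⊤),
      io = f.appTop.hom.comp (Scheme.ΓSpecIso (CommRingCat.of k)).inv.hom := ⟨_, rfl⟩
  rw [← hio] at hint ⊢
  obtain ⟨I, hI, V, hVaff, hVdom, hdense⟩ := exists_dense_integral_affine X hirr
  haveI := hI
  haveI := Fintype.ofFinite I
  letI : ∀ i, Algebra k Γ(X, V i) := fun i => ((res X (V i)).comp io).toAlgebra
  haveI : ∀ i, IsDomain Γ(X, V i) := hVdom
  haveI : ∀ i, Algebra.FiniteType k Γ(X, V i) := fun i => by
    have := finiteType_res f (hVaff i)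
    rw [← hio] at this
    exact this
  choose n φ h1 h2 using fun i => exists_hom_isAlgebraic k Γ(X, V i)
  obtain ⟨Φ, hΦ⟩ : ∃ Φ : (Γ(X, ⊤))ˣ →* Multiplicative ((i : I) → Fin (n i) → ℤ),
      ∀ u, Φ u = 1 → ∀ i, φ i (Units.map (res X (V i)).toMonoidHom u) = 1 := by
    refine ⟨(MulEquiv.piMultiplicative (fun i : I => Fin (n i) → ℤ)).symm.toMonoidHom.comp
      (MonoidHom.pi fun i => (φ i).comp (Units.map (res X (V i)).toMonoidHom)), ?_⟩
    intro u hu i
    rw [MonoidHom.comp_apply] at hu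
    have := (MulEquiv.map_eq_one_iff
      (MulEquiv.piMultiplicative (fun i : I => Fin (n i) → ℤ)).symm).mp hu
    exact congrFun this i
  apply fg_quotient_of_hom Φ
  intro u hu
  have hu' := hΦ u (MonoidHom.mem_ker.mp hu)
  have halg : ∀ i, ∃ p : Polynomial k, p.Monic ∧
      Polynomial.eval₂ ((res X (V i)).comp io) (res X (V i) (u : Γ(X, ⊤))) p = 0 := by
    intro i
    obtain ⟨p, hpm, hp⟩ := (h1 i _ (hu' i)).isIntegral
    exact ⟨p, hpm, hp⟩
  choose p hpm hp using halg
  have hP : Polynomial.eval₂ io (u : Γ(X, ⊤)) (∏ i, p i) = 0 := by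
    apply eq_zero_of_res_eq_zero X V hdense
    intro i
    rw [Polynomial.hom_eval₂, Polynomial.eval₂_finsetProd]
    exact Finset.prod_eq_zero (Finset.mem_univ i) (hp i)
  obtain ⟨c, hc⟩ := hint (u : Γ(X, ⊤))
    ⟨∏ i, p i, Polynomial.monic_prod_of_monic _ _ (fun i _ => hpm i), hP⟩
  by_cases hc0 : c = 0
  · have hu0 : (u : Γ(X, ⊤)) = 0 := by rw [← hc, hc0, map_zero]
    have h01 : (0 : Γ(X, ⊤)) = 1 := by
      have := u.mul_inv
      rw [hu0, zero_mul] at this
      exact this
    haveI : Subsingleton Γ(X, ⊤) := subsingleton_of_zero_eq_one h01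
    exact MonoidHom.mem_range.mpr ⟨1, Units.ext (Subsingleton.elim _ _)⟩
  · exact MonoidHom.mem_range.mpr ⟨Units.mk0 c hc0, Units.ext hc⟩

theorem units_free (k : Type u) [Field k] [IsAlgClosed k] (X : Scheme.{u}) [IsIntegral X]
    (f : X ⟶ Spec (CommRingCat.of k)) [LocallyOfFiniteType f] :
    ∃ (n : ℕ) (v : (Γ(X, ⊤))ˣ →* Multiplicative (Fin n → ℤ)), Function.Surjective v ∧
      v.ker = (Units.map ((f.appTop.hom.comp
        (Scheme.ΓSpecIso (CommRingCat.of k)).inv.hom : k →+* Γ(X, ⊤)) : k →* Γ(X, ⊤))).range := by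
  classical
  obtain ⟨io, hio⟩ : ∃ io : k →+* Γ(X, ⊤),
      io = f.appTop.hom.comp (Scheme.ΓSpecIso (CommRingCat.of k)).inv.hom := ⟨_, rfl⟩
  rw [← hio]
  obtain ⟨x⟩ : Nonempty X := inferInstance
  obtain ⟨_, ⟨V, hV, rfl⟩, hxV, -⟩ :=
    X.isBasis_affineOpens.exists_subset_of_mem_open (Set.mem_univ x) isOpen_univ
  haveI : Nonempty V := ⟨⟨x, hxV⟩⟩
  letI : Algebra k Γ(X, V) := ((res X V).comp io).toAlgebra
  haveI : Algebra.FiniteType k Γ(X, V) := by
    have := finiteType_res f hV
    rw [← hio] at this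
    exact this
  have hinj : Function.Injective (res X V) :=
    map_injective_of_isIntegral X (homOfLE (le_top : V ≤ ⊤))
  obtain ⟨n, φ, h1, h2⟩ := exists_hom_isAlgebraic k Γ(X, V)
  obtain ⟨Φ, hΦdef⟩ : ∃ Φ : (Γ(X, ⊤))ˣ →* Multiplicative (Fin n → ℤ),
      Φ = φ.comp (Units.map (res X V).toMonoidHom) := ⟨_, rfl⟩
  have hker : ∀ u : (Γ(X, ⊤))ˣ, Φ u = 1 ↔ u ∈ (Units.map (io : k →* Γ(X, ⊤))).range := by
    intro u
    constructor
    · intro hu
      rw [hΦdef] at hu
      have hint : IsIntegral k (res X V (u : Γ(X, ⊤))) := (h1 _ hu).isIntegral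
      obtain ⟨c, hc⟩ := exists_eq_algebraMap_of_isIntegral hint
      have hcu : io c = (u : Γ(X, ⊤)) := hinj hc
      have hc0 : c ≠ 0 := by
        intro h0
        have : (u : Γ(X, ⊤)) = 0 := by rw [← hcu, h0, map_zero]
        have h3 : res X V (u : Γ(X, ⊤)) = 0 := by rw [this, map_zero]
        exact (Units.map (res X V).toMonoidHom u).ne_zero h3
      exact MonoidHom.mem_range.mpr ⟨Units.mk0 c hc0, Units.ext hcu⟩
    · intro hu
      obtain ⟨c, rfl⟩ := MonoidHom.mem_range.mp hu
      rw [hΦdef]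
      have hunit : Units.map (res X V).toMonoidHom (Units.map (io : k →* Γ(X, ⊤)) c) =
          Units.map (algebraMap k Γ(X, V)).toMonoidHom c := Units.ext rfl
      rw [MonoidHom.comp_apply, hunit]
      exact h2 c
  -- the free quotient
  obtain ⟨Ψ, hΨ⟩ : ∃ Ψ : Additive (Γ(X, ⊤))ˣ →ₗ[ℤ] (Fin n → ℤ),
      ∀ a, Ψ a = Multiplicative.toAdd (Φ (Additive.toMul a)) :=
    ⟨(MonoidHom.toAdditiveLeft Φ).toIntLinearMap, fun a => rfl⟩
  obtain ⟨m, ⟨e⟩⟩ : ∃ m : ℕ, Nonempty (LinearMap.range Ψ ≃ₗ[ℤ] (Fin m → ℤ)) :=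
    ⟨_, ⟨(Module.finBasis ℤ (LinearMap.range Ψ)).equivFun⟩⟩
  refine ⟨m, AddMonoidHom.toMultiplicativeRight
    (e.toLinearMap.comp Ψ.rangeRestrict).toAddMonoidHom, ?_, ?_⟩
  · intro y
    obtain ⟨r, hr⟩ := e.surjective (Multiplicative.toAdd y)
    obtain ⟨a, ha⟩ := Ψ.surjective_rangeRestrict r
    refine ⟨Additive.toMul a, ?_⟩
    rw [AddMonoidHom.coe_toMultiplicativeRight]
    show Multiplicative.ofAdd (e (Ψ.rangeRestrict a)) = y
    rw [ha, hr]
    rfl
  · ext u
    rw [MonoidHom.mem_ker, ← hker, AddMonoidHom.coe_toMultiplicativeRight]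
    show Multiplicative.ofAdd (e (Ψ.rangeRestrict (Additive.ofMul u))) = 1 ↔ _
    rw [ofAdd_eq_one, LinearEquiv.map_eq_zero_iff, ← Subtype.coe_inj]
    show Ψ (Additive.ofMul u) = 0 ↔ _
    rw [hΨ]
    exact Iff.rfl

end Groth.Agent.Helper6.UnitsFG
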